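import Groth.Agent.AlgSpLib.FreeEtale
import Groth.Agent.AlgSpLib.LocalTarget
import Groth.Agent.AlgSpLib.DiagProp
import Groth.Agent.Bootstrap.Diag
import Mathlib

/-!
# Separation of quotients of free actions of finite groups
-/

set_option autoImplicit false
set_option linter.style.haveILetI false
set_option backward.isDefEq.respectTransparency false

universe u

open CategoryTheory CategoryTheory.Limits AlgebraicGeometry
open Groth.Agent.AlgSpLib

namespace Groth.Agent.FreeQuot

variable {S : Scheme.{u}}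

/-- the diagonal of the quotient sheaf of an etale equivalence relation has any fppf local property
of the graph of the relation -/
theorem repWith_diag_quot (P : MorphismProperty Scheme.{u}) [P.IsStableUnderBaseChange]
    [P.IsLocalAtTarget Scheme.fppfPrecoverage] {R U : Over S} {s t : R ⟶ U}
    (h : _root_.AlgSp.IsEtaleEqvRel s t) (hP : Mono (prod.lift t s).left → P (prod.lift t s).left) :
    _root_.AlgSp.RepWith P (Limits.diag (QuotSh.quot Scheme.fppfPrecoverage s t)) := by
  haveI : Etale s.left := h.etale_left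
  haveI : LocallyQuasiFinite s.left := FpqcDescent.locallyQuasiFinite_of_etale _
  have he : _root_.AlgSp.IsEqvRel s t := h.toIsEqvRel
  haveI := Bootstrap.isLocallySurjective_quot s t
  have := isLocallySurjective_prod_map (quotProj s t) (quotProj s t)
  refine repWith_of_isLocallySurjective (Bootstrap.representable_diag he)
    (isPullback_lift_diag (Bootstrap.isPullback_quot he)) ?_
  have e : prod.lift ((_root_.AlgSp.yon S).map t) ((_root_.AlgSp.yon S).map s) =
      (_root_.AlgSp.yon S).map (prod.lift t s) ≫ prodComparison (_root_.AlgSp.yon S) U U := by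
    apply prod.hom_ext <;> simp [prodComparison, ← Functor.map_comp]
  rw [e]
  refine (repWith_comp_iso_iff (P := P) _ _).2 ((_root_.Groth.Agent.AlgSpLib.repWith_yon_iff _).2 (hP ?_))
  have : Mono (prod.lift t s) := ⟨fun {T} a b e => he.injective T a b
    (by simpa using congrArg (fun k => k ≫ prod.fst) e) (by simpa using congrArg (fun k => k ≫ prod.snd) e)⟩
  exact mono_left _

variable {U : Over S} {G : Type u} [Group G] [Finite G] {c : Cofan (fun _ : G => U)} (hc : IsColimit c)

include hc

theorem range_eq {Y : Scheme.{u}} (f : c.pt.left ⟶ Y) (A : Set Y) :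
    f ⁻¹' A = ⋃ g, (c.inj g).left '' (((c.inj g).left ≫ f) ⁻¹' A) := by
  ext z
  constructor
  · intro hz
    obtain ⟨g, u, rfl⟩ := FreeEtale.exists_inj_eq hc z
    exact Set.mem_iUnion.2 ⟨g, u, hz, rfl⟩
  · intro hz
    obtain ⟨g, u, hu, rfl⟩ := Set.mem_iUnion.1 hz
    exact hu

/-- a map from a finite disjoint union is quasi-compact if it is so on each copy -/
theorem quasiCompact_of_inj {Y : Scheme.{u}} (f : c.pt.left ⟶ Y)
    (h : ∀ g, QuasiCompact ((c.inj g).left ≫ f)) : QuasiCompact f := by
  refine ⟨fun A hA hA' => ?_⟩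
  rw [range_eq hc f A]
  exact isCompact_iUnion fun g =>
    (QuasiCompact.isCompact_preimage (f := (c.inj g).left ≫ f) A hA hA').image (c.inj g).left.continuous

/-- a monomorphism from a finite disjoint union is a closed immersion if it is so on each copy -/
theorem isClosedImmersion_of_inj {Y : Scheme.{u}} (f : c.pt.left ⟶ Y) [Mono f]
    (h : ∀ g, IsClosedImmersion ((c.inj g).left ≫ f)) : IsClosedImmersion f := by
  haveI : SurjectiveOnStalks f := by
    refine ⟨fun z => ?_⟩
    obtain ⟨g, u, rfl⟩ := FreeEtale.exists_inj_eq hc z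
    haveI := FreeEtale.isOpenImmersion_inj hc g
    have := (h g).toSurjectiveOnStalks
    have h1 := ((c.inj g).left ≫ f).stalkMap_surjective u
    rw [Scheme.Hom.stalkMap_comp] at h1
    intro y
    obtain ⟨x, hx⟩ := h1 ((c.inj g).left.stalkMap u y)
    exact ⟨x, (ConcreteCategory.bijective_of_isIso ((c.inj g).left.stalkMap u)).1 hx⟩
  refine ⟨.of_continuous_injective_isClosedMap f.continuous f.injective fun A hA => ?_⟩
  have : f '' A = ⋃ g, ((c.inj g).left ≫ f) '' ((c.inj g).left ⁻¹' A) := by
    ext y
    constructor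
    · rintro ⟨z, hz, rfl⟩
      obtain ⟨g, u, rfl⟩ := FreeEtale.exists_inj_eq hc z
      exact Set.mem_iUnion.2 ⟨g, u, hz, rfl⟩
    · intro hy
      obtain ⟨g, u, hu, rfl⟩ := Set.mem_iUnion.1 hy
      exact ⟨_, hu, rfl⟩
  rw [this]
  haveI := h
  exact isClosed_iUnion_of_finite fun g =>
    ((c.inj g).left ≫ f).isClosedEmbedding.isClosedMap _ (hA.preimage (c.inj g).left.continuous)

variable (ρ : G →* Aut U) {s t : c.pt ⟶ U} (hs : ∀ g, c.inj g ≫ s = 𝟙 U)
  (ht : ∀ g, c.inj g ≫ t = (ρ g).hom)
  (hfree : ∀ (g : G) (x : U.left), g ≠ 1 →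
    U.left.fromSpecResidueField x ≫ (ρ g).hom.left ≠ U.left.fromSpecResidueField x)

omit hc [Finite G] in
include hs in
theorem inj_graph_snd (g : G) :
    ((c.inj g).left ≫ (prod.lift t s).left) ≫ (prod.snd : U ⨯ U ⟶ U).left = 𝟙 U.left := by
  rw [Category.assoc, ← Over.comp_left, prod.lift_snd, ← Over.comp_left, hs]
  rfl

include hs ht hfree in
theorem isQuasiSeparatedSp_quot [QuasiSeparated U.hom] :
    _root_.AlgSp.IsQuasiSeparatedSp (QuotSh.quot Scheme.fppfPrecoverage s t) := by
  refine repWith_diag_quot _ (FreeEtale.isEtaleEqvRel ρ hc hs ht hfree) fun _ => ?_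
  haveI : QuasiSeparated (prod.snd : U ⨯ U ⟶ U).left := by
    rw [← Over.prodLeftIsoPullback_hom_snd U U]
    infer_instance
  refine quasiCompact_of_inj hc _ fun g => ?_
  haveI : QuasiCompact (((c.inj g).left ≫ (prod.lift t s).left) ≫ (prod.snd : U ⨯ U ⟶ U).left) := by
    rw [inj_graph_snd hs g]; infer_instance
  exact QuasiCompact.of_comp _ (prod.snd : U ⨯ U ⟶ U).left

include hs ht hfree in
theorem isSeparatedSp_quot [IsSeparated U.hom] :
    _root_.AlgSp.IsSeparatedSp (QuotSh.quot Scheme.fppfPrecoverage s t) := by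
  refine repWith_diag_quot _ (FreeEtale.isEtaleEqvRel ρ hc hs ht hfree) fun hm => ?_
  haveI : IsSeparated (prod.snd : U ⨯ U ⟶ U).left := by
    rw [← Over.prodLeftIsoPullback_hom_snd U U]
    infer_instance
  refine isClosedImmersion_of_inj hc _ fun g => ?_
  haveI : IsClosedImmersion (((c.inj g).left ≫ (prod.lift t s).left) ≫ (prod.snd : U ⨯ U ⟶ U).left) := by
    rw [inj_graph_snd hs g]; infer_instance
  exact IsClosedImmersion.of_comp _ (prod.snd : U ⨯ U ⟶ U).left

end Groth.Agent.FreeQuot
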